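import Mathlib.AlgebraicGeometry.Pullbacks
import Mathlib.CategoryTheory.Comma.Over.Pullback
import Mathlib.CategoryTheory.Limits.Preserves.Shapes.Pullbacks

/-!
Bijectivity of restriction on morphisms passes to fibre products in the target.
-/

universe u

open CategoryTheory CategoryTheory.Limits AlgebraicGeometry

namespace Groth.Agent.NeronLimit

variable {S S₀ : Scheme.{u}} (j : S₀ ⟶ S)

/-- Restriction of morphisms into a fibre product. -/
theorem bijective_of_isPullback {Z P B C D : Over S} {p : P ⟶ B} {q : P ⟶ C} {b : B ⟶ D} {c : C ⟶ D}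
    (sq : IsPullback p q b c) (hB : Function.Bijective (fun g : Z ⟶ B => (Over.pullback j).map g))
    (hC : Function.Bijective (fun g : Z ⟶ C => (Over.pullback j).map g))
    (hD : Function.Injective (fun g : Z ⟶ D => (Over.pullback j).map g)) :
    Function.Bijective (fun g : Z ⟶ P => (Over.pullback j).map g) := by
  have : PreservesLimitsOfSize.{0, 0} (Over.pullback j) :=
    (Over.mapPullbackAdj j).rightAdjoint_preservesLimits
  have sq' := sq.map (Over.pullback j)
  refine ⟨fun g g' e => sq.hom_ext (hB.1 ?_) (hC.1 ?_), fun x => ?_⟩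
  · show (Over.pullback j).map (g ≫ p) = (Over.pullback j).map (g' ≫ p)
    rw [Functor.map_comp, Functor.map_comp]
    exact congrArg (· ≫ _) e
  · show (Over.pullback j).map (g ≫ q) = (Over.pullback j).map (g' ≫ q)
    rw [Functor.map_comp, Functor.map_comp]
    exact congrArg (· ≫ _) e
  obtain ⟨g₁, h₁⟩ := hB.2 (x ≫ (Over.pullback j).map p)
  obtain ⟨g₂, h₂⟩ := hC.2 (x ≫ (Over.pullback j).map q)
  dsimp only at h₁ h₂
  have w : g₁ ≫ b = g₂ ≫ c := hD (by
    show (Over.pullback j).map (g₁ ≫ b) = (Over.pullback j).map (g₂ ≫ c)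
    rw [Functor.map_comp, Functor.map_comp, h₁, h₂, Category.assoc, Category.assoc, sq'.w])
  refine ⟨sq.lift g₁ g₂ w, sq'.hom_ext ?_ ?_⟩
  · show (Over.pullback j).map _ ≫ (Over.pullback j).map p = _
    rw [← Functor.map_comp, sq.lift_fst, h₁]
  · show (Over.pullback j).map _ ≫ (Over.pullback j).map q = _
    rw [← Functor.map_comp, sq.lift_snd, h₂]

/-- Restriction of morphisms into the base. -/
theorem bijective_terminal (Z : Over S) :
    Function.Bijective (fun g : Z ⟶ Over.mk (𝟙 S) => (Over.pullback j).map g) := by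
  have hsub : ∀ g g' : Z ⟶ Over.mk (𝟙 S), g = g' := fun g g' => Over.OverMorphism.ext (by
    have e1 := Over.w g
    have e2 := Over.w g'
    simp only [Over.mk_hom] at e1 e2
    exact ((Category.comp_id g.left).symm.trans e1).trans (((Category.comp_id g'.left).symm.trans e2).symm))
  refine ⟨fun g g' _ => hsub g g', fun x => ⟨Over.homMk Z.hom (Category.comp_id _), ?_⟩⟩
  have : IsIso (pullback.snd (𝟙 S) j) := inferInstance
  refine Over.OverMorphism.ext ?_
  exact (cancel_mono (pullback.snd (𝟙 S) j)).1 ((Over.w _).trans (Over.w x).symm)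

end Groth.Agent.NeronLimit
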